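import Cfsg.Agent.H740.K4.Equiv
import Cfsg.Agent.H740.K4.Four
import Cfsg.Agent.H821.K547.Defs

/-!
# S4547: parity for the invariant good characters (helper825)

`τ` an automorphism of 2-power order modulo inner automorphisms of the finite group `S` of even order, `t` of odd order
with `τ t` conjugate to `t`: the sum of `χ t` over the `τ`-invariant good characters is even.

* `exists_inv_new` : a further `τ`-invariant good character;
* `ginv3_of_par` : one `τ`-invariant good character with an even value at `t` gives `GInv3 τ`.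
-/

set_option autoImplicit false

open Cfsg Cfsg.Agent.Characters.Core Cfsg.Agent.H618.Sigma Cfsg.Agent.Blocks.Local
open Cfsg.Agent.H601.K4 Cfsg.Agent.H821.K547

namespace Cfsg.Agent.H825.K547

universe u

variable {S : Type u} [Group S]

theorem good_one [Finite S] : Good (fun _ : S => (1 : ℂ)) := H740.K4.good_one'

/-- **Parity**: a further `τ`-invariant good character. -/
theorem exists_inv_new [Finite S] (hev : Even (Nat.card S)) {τ : MulAut S} (hτ : TwoPow τ)
    (s : Finset (S → ℂ)) (hs : ∀ χ ∈ s, Good χ ∧ ∀ x, χ (τ x) = χ x) {t : S} (ht : Odd (orderOf t))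
    (htτ : IsConj t (τ t)) {n : ℤ} (hn : Odd n) (hsum : ∑ χ ∈ s, χ t = (n : ℂ)) :
    ∃ χ : S → ℂ, (Good χ ∧ ∀ x, χ (τ x) = χ x) ∧ χ ∉ s := by
  classical
  by_contra hcon
  push Not at hcon
  obtain ⟨k, hk⟩ := H740.K4.exists_cube S
  obtain ⟨M, hM⟩ := Cfsg.Agent.Blocks.ExistsModular.exists_isPModular Nat.prime_two
  have hMp : M.IsPrime := hM.2.1.isPrime
  have : Finite (IrrCharacter S) := finite_irr
  have := Fintype.ofFinite (OddB M S)
  have hchar := charP_resField hM
  have h1 := sum_fixed_principal hM hk hev ht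
  -- the good characters
  let Ω := {χ : OddB M S // sigB hk M χ = χ}
  have : Fintype Ω := Fintype.ofFinite Ω
  have hgood : ∀ χ : Ω, Good (χ.1.1 : S → ℂ) := fun χ => H740.K4.good_of_mem hM hk χ.1 χ.2
  have mk : ∀ χ : S → ℂ, Good χ → ∃ ω : Ω, (ω.1.1 : S → ℂ) = χ := by
    intro χ h
    refine ⟨⟨⟨⟨χ, h.odd.1⟩, h.b0 M hM _, odd_iff.2 h.odd.2⟩, (sigB_eq_iff hk _).2 ?_⟩, rfl⟩
    exact h.sig k hk.two hk.odd
  have ext : ∀ a b : Ω, (a.1.1 : S → ℂ) = b.1.1 → a = b := fun a b h => Subtype.ext (Subtype.ext (Subtype.ext h))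
  choose T hT using fun ω : Ω => mk _ (H740.K4.good_comp τ (hgood ω))
  have hiter : ∀ (m : ℕ) (ω : Ω) (x : S), ((T^[m] ω).1.1 : S → ℂ) x = (ω.1.1 : S → ℂ) ((τ ^ m) x) := by
    intro m
    induction m with
    | zero => intro ω x; rfl
    | succ m ih =>
      intro ω x
      rw [Function.iterate_succ_apply, ih, hT, pow_succ', MulAut.mul_apply]
  obtain ⟨m, y, hy⟩ := hτ
  have h2 : ∑ ω : Ω, redC M ((ω.1.1 : S → ℂ) t) = ∑ ω : Ω with T ω = ω, redC M ((ω.1.1 : S → ℂ) t) := by
    refine sum_fixed_perm T m (fun ω => ext _ _ (funext fun x => ?_)) _ fun ω => ?_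
    · rw [hiter, hy]
      exact isIrr_isClassFunction ω.1.1.2 x y
    · obtain ⟨c, hc⟩ := isConj_iff.1 htτ
      rw [hT]
      show redC M ((ω.1.1 : S → ℂ) (τ t)) = redC M ((ω.1.1 : S → ℂ) t)
      rw [← hc]
      exact congrArg _ (isIrr_isClassFunction ω.1.1.2 t c)
  have h3 : ∑ ω : Ω, redC M ((ω.1.1 : S → ℂ) t) = 0 := by
    rw [← h1]
    symm
    refine Finset.sum_subtype (Finset.univ.filter fun χ : OddB M S => sigB hk M χ = χ) (fun χ => ?_)
      (fun χ : OddB M S => redC M ((χ.1 : S → ℂ) t))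
    rw [Finset.mem_filter]
    exact ⟨fun h => h.2, fun h => ⟨Finset.mem_univ _, h⟩⟩
  have hfix : ∀ ω : Ω, T ω = ω ↔ ∀ x, (ω.1.1 : S → ℂ) (τ x) = (ω.1.1 : S → ℂ) x := by
    intro ω
    constructor
    · intro h x
      have h4 := hT ω
      rw [h] at h4
      exact (congrFun h4 x).symm
    · intro h
      refine ext _ _ ?_
      rw [hT]
      exact funext h
  have hint : ∀ χ ∈ s, MemLocalRing M (χ t) := fun χ hχ => memLocalRing_irr ⟨χ, (hs χ hχ).1.odd.1⟩ t
  have h4 : ∑ χ ∈ s, redC M (χ t) = 0 := by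
    rw [← h3, h2]
    symm
    refine Finset.sum_bij (fun (ω : Ω) _ => (ω.1.1 : S → ℂ)) ?_ ?_ ?_ ?_
    · intro ω hω
      have h5 := (hfix ω).1 (Finset.mem_filter.1 hω).2
      exact hcon _ ⟨hgood ω, h5⟩
    · intro a _ b _ h
      exact ext _ _ h
    · intro χ hχ
      obtain ⟨ω, rfl⟩ := mk χ (hs χ hχ).1
      exact ⟨ω, Finset.mem_filter.2 ⟨Finset.mem_univ _, (hfix ω).2 (hs _ hχ).2⟩, rfl⟩
    · intro ω _
      rfl
  have h5 : redC M (∑ χ ∈ s, χ t) = 0 := by
    rw [redC_sum hint]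
    exact h4
  rw [hsum, redC_eq_zero_iff (memLocalRing_intCast n), memLocalIdeal_intCast_iff hM] at h5
  exact (Int.not_even_iff_odd.2 hn) (even_iff_two_dvd.2 h5)

/-- **Three invariant good characters from one** with an even value at an element of odd order whose class is
invariant. -/
theorem ginv3_of_par [Finite S] (hev : Even (Nat.card S)) {τ : MulAut S} (hτ : TwoPow τ) {χ : S → ℂ} (hχ : Good χ)
    (hinv : ∀ x, χ (τ x) = χ x) {t : S} (ht : Odd (orderOf t)) (htτ : IsConj t (τ t)) {n : ℤ} (hn : Even n)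
    (hv : χ t = (n : ℂ)) : GInv3 τ := by
  classical
  have hne : (fun _ : S => (1 : ℂ)) ≠ χ := by
    intro h
    rw [← h] at hv
    have h0 : (1 : ℂ) = (n : ℂ) := hv
    have h1 : n = 1 := by exact_mod_cast h0.symm
    rw [h1] at hn
    exact absurd hn (by decide)
  obtain ⟨ψ, ⟨h1, h2⟩, h3⟩ := exists_inv_new hev hτ {(fun _ : S => (1 : ℂ)), χ} (fun ψ h => by
    rw [Finset.mem_insert, Finset.mem_singleton] at h
    rcases h with rfl | rfl
    · exact ⟨good_one, fun _ => rfl⟩
    · exact ⟨hχ, hinv⟩) ht htτ (n := 1 + n) (by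
      rw [add_comm]
      exact hn.add_one) (by
      rw [Finset.sum_pair hne, hv]
      push_cast
      ring)
  rw [Finset.mem_insert, Finset.mem_singleton, not_or] at h3
  refine ⟨![fun _ => 1, χ, ψ], ?_, ?_⟩
  · intro i j hij
    fin_cases i <;> fin_cases j <;> simp_all
  · intro i
    fin_cases i
    · exact ⟨good_one, fun _ => rfl⟩
    · exact ⟨hχ, hinv⟩
    · exact ⟨h1, h2⟩

end Cfsg.Agent.H825.K547
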