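import Cfsg.Agent.H825.K547.ValAut
import Cfsg.Agent.H825.K547.Par
import Cfsg.Agent.H329.K4.He
import Cfsg.Agent.KFacts.He.Outer
import Cfsg.Agent.H997.OutHe2
import Cfsg.Agent.H845.K547.Jordan

/-!
# S4547, the row of the Held group (helper825)

* `d3_he` : the unitriangular group `UT(5, 2)` is a Sylow 2-subgroup of `He`;
* `val_rho` : the rational character of degree 1275 is invariant under the outer automorphism `rho`;
* `ginv3` : it vanishes at the elements of order 5, hence three good characters are invariant (parity);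
* `row`.
-/

set_option autoImplicit false
set_option maxRecDepth 100000

open Cfsg Cfsg.Agent.Characters.Core Cfsg.Agent.H329.K4.Orb Cfsg.Agent.H601.K4 Cfsg.Agent.H821.K547
open Cfsg.Spor.He (Gen)
open Cfsg.Agent.SporadicB.HePerm Cfsg.Agent.KFacts.He.Lv
open Cfsg.Agent.H997.OutHe (rho rho_gn rho_sq rho_outer)
open Cfsg.Agent.SporadicRecognition.HeldModel (T0 PT Pat mem_pat CC L5 mem_CC)
open scoped ComplexConjugate

namespace Cfsg.Agent.H825.K547.He

universe u v

attribute [local instance] Cfsg.Agent.H707.Odd.He.instActHe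

/-! ### The Sylow 2-subgroup -/

/-- an embedded 2-group of the right order which maps onto `2^3` -/
theorem d3_of_emb {S : Type u} [Group S] [Finite S] {T : Type v} [Group T] (j : T →* S)
    (hj : Function.Injective j) {n : ℕ} (hT : Nat.card T = 2 ^ n) (hS : ¬ 2 ^ (n + 1) ∣ Nat.card S)
    (hr : Rk 3 T) : D3 S := by
  have : Fact (Nat.Prime 2) := ⟨Nat.prime_two⟩
  have hcard : Nat.card j.range = 2 ^ n := by
    rw [← hT]
    exact Nat.card_congr (MonoidHom.ofInjective hj).symm.toEquiv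
  have hfac : (Nat.card S).factorization 2 = n := by
    refine le_antisymm ?_ ?_
    · by_contra h
      push Not at h
      exact hS ((Nat.Prime.pow_dvd_iff_le_factorization Nat.prime_two Nat.card_pos.ne').2 h)
    · rw [← Nat.Prime.pow_dvd_iff_le_factorization Nat.prime_two Nat.card_pos.ne', ← hcard]
      exact Subgroup.card_subgroup_dvd_card _
  let P : Sylow 2 S := Sylow.ofCard j.range (by rw [hcard, hfac])
  intro Q
  obtain ⟨f, hf⟩ := hr
  let e : Q ≃* P := Sylow.equiv Q P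
  let e' : P ≃* T := (MonoidHom.ofInjective hj).symm
  exact ⟨f.comp (e.trans e').toMonoidHom, hf.comp (e.trans e').surjective⟩

/-! ### The unitriangular group -/

theorem ent_zero {g : L5} (hg : g ∈ T0) {i j : Fin 5} (h : j < i) : (g : Matrix (Fin 5) (Fin 5) (ZMod 2)) i j = 0 := by
  have h1 := (mem_pat _).1 hg i j (by
    unfold PT
    rw [decide_eq_false_iff_not]
    exact not_lt.2 h.le)
  rw [Matrix.sub_apply, Matrix.one_apply_ne (ne_of_gt h), sub_zero] at h1
  exact h1

theorem ent_one {g : L5} (hg : g ∈ T0) (i : Fin 5) : (g : Matrix (Fin 5) (Fin 5) (ZMod 2)) i i = 1 := by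
  have h1 := (mem_pat _).1 hg i i (by
    unfold PT
    rw [decide_eq_false_iff_not]
    exact lt_irrefl i)
  rw [Matrix.sub_apply, Matrix.one_apply_eq] at h1
  exact sub_eq_zero.1 h1

theorem T0_le_CC : T0 ≤ CC := by
  intro g hg
  rw [mem_CC]
  apply Subtype.ext
  show (g : Matrix (Fin 5) (Fin 5) (ZMod 2)) * (Matrix.transvection 0 4 1) = Matrix.transvection 0 4 1 * (g : Matrix (Fin 5) (Fin 5) (ZMod 2))
  unfold Matrix.transvection
  rw [mul_add, add_mul, mul_one, one_mul]
  congr 1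
  ext i k
  rw [Matrix.mul_apply, Matrix.mul_apply]
  have h1 : ∀ l, (g : Matrix (Fin 5) (Fin 5) (ZMod 2)) i l * (Matrix.single 0 4 1 : Matrix (Fin 5) (Fin 5) (ZMod 2)) l k = if l = 0 then (if k = 4 then (g : Matrix (Fin 5) (Fin 5) (ZMod 2)) i 0 else 0) else 0 := by
    intro l
    rw [Matrix.single_apply]
    by_cases hl : l = 0
    · subst hl
      by_cases hk : k = 4
      · subst hk; simp
      · simp [hk, Ne.symm hk]
    · simp [hl, Ne.symm hl]
  have h2 : ∀ l, (Matrix.single 0 4 1 : Matrix (Fin 5) (Fin 5) (ZMod 2)) i l * (g : Matrix (Fin 5) (Fin 5) (ZMod 2)) l k = if l = 4 then (if i = 0 then (g : Matrix (Fin 5) (Fin 5) (ZMod 2)) 4 k else 0) else 0 := by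
    intro l
    rw [Matrix.single_apply]
    by_cases hl : l = 4
    · subst hl
      by_cases hi : i = 0
      · subst hi; simp
      · simp [hi, Ne.symm hi]
    · simp [hl, Ne.symm hl]
  rw [Finset.sum_congr rfl fun l _ => h1 l, Finset.sum_congr rfl fun l _ => h2 l, Finset.sum_ite_eq', Finset.sum_ite_eq',
    if_pos (Finset.mem_univ _), if_pos (Finset.mem_univ _)]
  by_cases hk : k = 4
  · subst hk
    by_cases hi : i = 0
    · subst hi
      rw [if_pos rfl, if_pos rfl, ent_one hg, ent_one hg]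
    · rw [if_pos rfl, if_neg hi]
      exact ent_zero hg (Fin.pos_of_ne_zero hi)
  · by_cases hi : i = 0
    · subst hi
      rw [if_neg hk, if_pos rfl]
      exact (ent_zero hg (lt_of_le_of_ne (Fin.le_last k) hk)).symm
    · rw [if_neg hk, if_neg hi]

/-- the unitriangular matrix with given entries -/
def um (f : Fin 10 → ZMod 2) : Matrix (Fin 5) (Fin 5) (ZMod 2) :=
  !![1, f 0, f 1, f 2, f 3; 0, 1, f 4, f 5, f 6; 0, 0, 1, f 7, f 8; 0, 0, 0, 1, f 9; 0, 0, 0, 0, 1]

theorem det_um (f : Fin 10 → ZMod 2) : (um f).det = 1 := by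
  rw [Matrix.det_of_isUpperTriangular]
  · simp [um, Fin.prod_univ_five]
  · intro i j h
    fin_cases i <;> fin_cases j <;> first | rfl | (exact absurd h (by decide))

theorem um_mem (f : Fin 10 → ZMod 2) : (⟨um f, det_um f⟩ : L5) ∈ T0 := by
  refine (mem_pat _).2 fun i j h => ?_
  show (um f - 1) i j = 0
  fin_cases i <;> fin_cases j <;> first | (exact absurd h (by decide)) | (exact sub_self (1 : ZMod 2))

theorem card_T0 : Nat.card T0 = 2 ^ 10 := by
  let e : T0 ≃ (Fin 10 → ZMod 2) :=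
    { toFun := fun g => ![(g : L5).1 0 1, (g : L5).1 0 2, (g : L5).1 0 3, (g : L5).1 0 4, (g : L5).1 1 2,
        (g : L5).1 1 3, (g : L5).1 1 4, (g : L5).1 2 3, (g : L5).1 2 4, (g : L5).1 3 4]
      invFun := fun f => ⟨⟨um f, det_um f⟩, um_mem f⟩
      left_inv := by
        intro g
        apply Subtype.ext
        apply Subtype.ext
        show um _ = (g : L5).1
        ext i j
        fin_cases i <;> fin_cases j <;> first | rfl | (exact (ent_one g.2 _).symm) |
          (exact (ent_zero g.2 (by decide)).symm)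
      right_inv := by
        intro f
        funext i
        fin_cases i <;> rfl }
  rw [Nat.card_congr e, Nat.card_fun, Nat.card_eq_fintype_card, Nat.card_eq_fintype_card, Fintype.card_fin,
    ZMod.card]

theorem sup_mul {g h : L5} (hg : g ∈ T0) (hh : h ∈ T0) : (g * h : L5).1 0 1 = g.1 0 1 + h.1 0 1 ∧
    (g * h : L5).1 1 2 = g.1 1 2 + h.1 1 2 ∧ (g * h : L5).1 2 3 = g.1 2 3 + h.1 2 3 := by
  have h0 : ∀ i j : Fin 5, j < i → (g.1 i j = 0 ∧ h.1 i j = 0) := fun i j h => ⟨ent_zero hg h, ent_zero hh h⟩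
  have h1 : ∀ i : Fin 5, g.1 i i = 1 ∧ h.1 i i = 1 := fun i => ⟨ent_one hg i, ent_one hh i⟩
  have e : (g * h : L5).1 = g.1 * h.1 := rfl
  rw [e, Matrix.mul_apply, Matrix.mul_apply, Matrix.mul_apply, Fin.sum_univ_five, Fin.sum_univ_five,
    Fin.sum_univ_five]
  refine ⟨?_, ?_, ?_⟩
  · rw [(h1 0).1, (h1 1).2, (h0 2 1 (by decide)).2, (h0 3 1 (by decide)).2, (h0 4 1 (by decide)).2]
    ring
  · rw [(h0 1 0 (by decide)).1, (h1 1).1, (h1 2).2, (h0 3 2 (by decide)).2, (h0 4 2 (by decide)).2]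
    ring
  · rw [(h0 2 0 (by decide)).1, (h0 2 1 (by decide)).1, (h1 2).1, (h1 3).2, (h0 4 3 (by decide)).2]
    ring

/-- the three entries -/
def hom3 : T0 →* Multiplicative (Fin 3 → ZMod 2) where
  toFun g := Multiplicative.ofAdd ![(g : L5).1 0 1, (g : L5).1 1 2, (g : L5).1 2 3]
  map_one' := by
    apply congrArg Multiplicative.ofAdd
    funext i
    fin_cases i <;> rfl
  map_mul' g h := by
    obtain ⟨h1, h2, h3⟩ := sup_mul g.2 h.2
    apply congrArg Multiplicative.ofAdd
    funext i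
    fin_cases i
    · exact h1
    · exact h2
    · exact h3

theorem rk_T0 : Rk 3 T0 := by
  refine ⟨hom3, fun v => ?_⟩
  refine ⟨⟨⟨um ![Multiplicative.toAdd v 0, 0, 0, 0, Multiplicative.toAdd v 1, 0, 0, Multiplicative.toAdd v 2, 0, 0],
    det_um _⟩, um_mem _⟩, ?_⟩
  apply congrArg Multiplicative.ofAdd
  funext i
  fin_cases i <;> rfl

theorem d3_he {S : Type u} [Group S] (h : Spor.IsoHe S) : D3 S := by
  obtain ⟨e⟩ := h
  obtain ⟨hfin, -⟩ := Cfsg.Agent.SporadicB.HeUpper.card_he_le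
  have : Finite S := Finite.of_equiv _ e.symm.toEquiv
  refine d3_of_emb (n := 10) (((e.symm.toMonoidHom).comp KFacts.He.Hyp.iota).comp (Subgroup.inclusion T0_le_CC)) ?_ card_T0 ?_ rk_T0
  · exact (e.symm.injective.comp KFacts.He.Hyp.hyp.inj).comp (Subgroup.inclusion_injective T0_le_CC)
  · rw [Nat.card_congr e.toEquiv, KFacts.He.Cent.card_He]
    decide

/-! ### The point stabilisers -/

/-- the swap of the letters `f`, `g` -/
def swl (w : List Gen) : List Gen := w.map Cfsg.Agent.H997.OutHe.sw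

theorem rho_wd (w : List Gen) : rho (wd w) = wd (swl w) := by
  induction w with
  | nil => exact map_one _
  | cons x w ih =>
    rw [wd_cons, map_mul, rho_gn, ih]
    rfl

theorem fix_chk : (wordsK.all fun w => Nat.beq (act (swl w) 883) 883) = true := by decide +kernel

/-- `rho` maps the stabiliser of `0` into the stabiliser of `883` -/
theorem rho_fix {g : Spor.He} (hg : g • (0 : Fin 2058) = 0) : rho g • (883 : Fin 2058) = 883 := by
  have h1 : g ∈ S1683.K := by
    rw [S1683.K_eq_St]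
    exact hg
  have h2 : S1683.K = Subgroup.closure {q | ∃ w ∈ wordsK, q = wd w} := by
    refine Subgroup.map_injective Cfsg.Agent.FixBN.HeStab.phi_injective ?_
    rw [S1683.map_K, MonoidHom.map_closure]
    congr 1
    ext q
    constructor
    · rintro ⟨w, hw, rfl⟩
      exact ⟨wd w, ⟨w, hw, rfl⟩, phi_wd w⟩
    · rintro ⟨_, ⟨w, hw, rfl⟩, rfl⟩
      exact ⟨w, hw, phi_wd w⟩
  have h3 : S1683.K ≤ (MulAction.stabilizer Spor.He (883 : Fin 2058)).comap rho.toMonoidHom := by
    rw [h2, Subgroup.closure_le]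
    rintro q ⟨w, hw, rfl⟩
    show rho (wd w) • (883 : Fin 2058) = 883
    rw [rho_wd]
    have h3 := List.all_eq_true.1 fix_chk w hw
    apply Fin.ext
    show ((phi (wd (swl w)) (883 : Fin 2058) : Fin 2058) : ℕ) = 883
    rw [phi_wd_apply]
    exact Nat.eq_of_beq_eq_true h3
  exact h3 h1

/-! ### The character of degree 1275 -/

/-- the spherical function -/
noncomputable def ac : Fin 5 → ℂ := ![1, 1 / 85, -9 / 425, -1 / 34, -1 / 34]

open Cfsg.Agent.H707.Odd.He (B) in
theorem hBac : ∀ i, ∑ j, (B i j : ℂ) * ac j = -4 * ac i := by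
  intro i
  fin_cases i <;> simp only [B, ac, Fin.sum_univ_five, Matrix.cons_val, Fin.zero_eta, Fin.mk_one, Fin.reduceFinMk,
    Nat.cast_ofNat, Nat.cast_zero, Nat.cast_one] <;> norm_num

open Cfsg.Agent.H707.Odd.He (B) in
theorem huniqc (a' : Fin 5 → ℂ) (h : ∀ i, ∑ j, (B i j : ℂ) * a' j = -4 * a' i) (i : Fin 5) : a' i = a' 0 * ac i := by
  have h0 := h 0
  have h1 := h 1
  have h2 := h 2
  have h3 := h 3
  simp only [B, Fin.sum_univ_five, Matrix.cons_val, Nat.cast_ofNat, Nat.cast_zero] at h0 h1 h2 h3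
  fin_cases i
  · show a' 0 = a' 0 * 1
    rw [mul_one]
  · show a' 1 = a' 0 * (1 / 85)
    linear_combination (-1 / 340 : ℂ) * h0 + (-9 / 700 : ℂ) * h1 + (27 / 1400 : ℂ) * h2 + (1 / 280 : ℂ) * h3
  · show a' 2 = a' 0 * (-9 / 425)
    linear_combination (9 / 1700 : ℂ) * h0 + (54 / 875 : ℂ) * h1 + (-149 / 3500 : ℂ) * h2 + (-3 / 175 : ℂ) * h3
  · show a' 3 = a' 0 * (-1 / 34)
    linear_combination (1 / 136 : ℂ) * h0
  · show a' 4 = a' 0 * (-1 / 34)
    linear_combination (1 / 136 : ℂ) * h0 + (1 / 28 : ℂ) * h1 + (-3 / 56 : ℂ) * h2 + (1 / 56 : ℂ) * h3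

theorem hsumc : ((1275 : ℕ) : ℂ) * ∑ i, (Cfsg.Agent.H707.Odd.He.k i : ℂ) * (ac i * conj (ac i)) = (2058 : ℕ) := by
  simp only [Cfsg.Agent.H707.Odd.He.k, ac, Fin.sum_univ_five, Matrix.cons_val, map_one, map_div₀, map_neg,
    map_ofNat, Nat.cast_ofNat, Nat.cast_one]
  norm_num

theorem exists_val : ∃ χ : Spor.He → ℂ, Val (0 : Fin 2058) Cfsg.Agent.H707.Odd.He.cls ac 1275 χ := by
  obtain ⟨hfin, -⟩ := Cfsg.Agent.SporadicB.HeUpper.card_he_le
  refine exists_of_orbital (0 : Fin 2058) Cfsg.Agent.H707.Odd.He.cls Cfsg.Agent.H707.Odd.He.r H329.K4.He.hcls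
    H329.K4.He.htr 3 (fun i => wd (Cfsg.Agent.H707.Odd.He.w i)) Cfsg.Agent.H707.Odd.He.w_smul Cfsg.Agent.H707.Odd.He.B
    Cfsg.Agent.H707.Odd.He.hB ac (-4) hBac ?_ ?_ H329.K4.He.base_tr Cfsg.Agent.H707.Odd.He.k
    Cfsg.Agent.H707.Odd.He.hk 1275 ?_
  · intro a' h i
    rw [Cfsg.Agent.H707.Odd.He.cls_zero]
    exact huniqc a' h i
  · rw [Cfsg.Agent.H707.Odd.He.cls_zero]
    rfl
  · rw [Fintype.card_fin]
    exact hsumc

/-- the outer automorphism composed with a conjugation fixes the point stabiliser; the character is invariant -/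
theorem val_rho {χ : Spor.He → ℂ} (h : Val (0 : Fin 2058) Cfsg.Agent.H707.Odd.He.cls ac 1275 χ) (g : Spor.He) :
    χ (rho g) = χ g := by
  obtain ⟨h0, hh0⟩ := H329.K4.He.base_tr 883
  let α : MulAut Spor.He := MulAut.conj h0⁻¹ * rho
  have hα : ∀ g : Spor.He, α g = h0⁻¹ * rho g * h0 := by
    intro g
    show h0⁻¹ * rho g * h0⁻¹⁻¹ = _
    rw [inv_inv]
  have hfix : ∀ g : Spor.He, g • (0 : Fin 2058) = 0 → α g • (0 : Fin 2058) = 0 := by
    intro g hg
    rw [hα, mul_smul, mul_smul, hh0, rho_fix hg, inv_smul_eq_iff, hh0]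
  obtain ⟨π, hπ, hπ0⟩ := exists_perm H329.K4.He.base_tr α hfix
  have hk : ∀ i j : Fin 5, Cfsg.Agent.H707.Odd.He.k i = Cfsg.Agent.H707.Odd.He.k j → ac i = ac j := by
    intro i j hij
    fin_cases i <;> fin_cases j <;> first | rfl | (exact absurd hij (by decide))
  have h1 := val_comp H329.K4.He.base_tr α π hπ h hπ0 (fun x => hk _ _ (by
    have h2 := size_eq α π hπ hπ0 Cfsg.Agent.H707.Odd.He.cls Cfsg.Agent.H707.Odd.He.r H329.K4.He.hcls
      H329.K4.He.htr x
    rwa [Cfsg.Agent.H707.Odd.He.hk, Cfsg.Agent.H707.Odd.He.hk] at h2)) g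
  rw [← h1, hα]
  have h3 := isIrr_isClassFunction h.irr (rho g) h0⁻¹
  rw [inv_inv] at h3
  exact h3.symm

theorem card_he : Nat.card Spor.He = 4030387200 := KFacts.He.Classes.card_he

/-- every outer automorphism is `rho` up to conjugation -/
theorem eq_conj_rho {τ : MulAut Spor.He} (hn : ¬ IsInn τ) : ∃ s : Spor.He, ∀ x, τ x = s * rho x * s⁻¹ := by
  have h1 : τ ∉ (MulAut.conj : Spor.He →* MulAut Spor.He).range := by
    rintro ⟨s, rfl⟩
    exact hn ⟨s, fun x => MulAut.conj_apply s x⟩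
  have h2 : rho ∉ (MulAut.conj : Spor.He →* MulAut Spor.He).range := by
    rintro ⟨s, hs⟩
    exact rho_outer s hs.symm
  have hidx : (MulAut.conj : Spor.He →* MulAut Spor.He).range.index = 2 := by
    rcases KFacts.He.Outer.index_le_two KFacts.He.Outer.isoHe_refl with e | e
    · rw [Subgroup.index_eq_one.1 e] at h1
      exact absurd (Subgroup.mem_top _) h1
    · exact e
  have h3 : τ * rho ∈ (MulAut.conj : Spor.He →* MulAut Spor.He).range :=
    (Subgroup.mul_mem_iff_of_index_two hidx).2 (iff_of_false h1 h2)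
  obtain ⟨s, hs⟩ := h3
  refine ⟨s, fun x => ?_⟩
  have h4 : rho (rho x) = x := DFunLike.congr_fun rho_sq x
  have h5 := DFunLike.congr_fun hs (rho x)
  rw [MulAut.conj_apply, MulAut.mul_apply, h4] at h5
  exact h5.symm

/-- an element of order 5 fixed by `rho` -/
noncomputable def t : Spor.He := wd [.c, .d, .c, .d]

theorem rho_t : rho t = t := rho_wd _

theorem orderOf_t : orderOf t = 5 := by
  have : Fact (Nat.Prime 5) := ⟨by norm_num⟩
  refine orderOf_eq_prime ?_ ?_
  · have h := Cfsg.Agent.FixBN.HeStab.eq_of_chkB (v := [.c, .d, .c, .d] ++ [.c, .d, .c, .d] ++ [.c, .d, .c, .d] ++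
      [.c, .d, .c, .d] ++ [.c, .d, .c, .d]) (w := []) (by decide +kernel)
    rw [wd_append, wd_append, wd_append, wd_append, wd_nil] at h
    rw [pow_succ, pow_succ, pow_succ, pow_succ, pow_one]
    exact h
  · intro h
    have h0 : phi t = 1 := by rw [h, map_one]
    have h1 : phi t (1 : Fin 2058) = 1 := by rw [h0]; rfl
    have h2 := congrArg (fun i : Fin 2058 => (i : ℕ)) h1
    have h3 : act [.c, .d, .c, .d] 1 = 1 := (phi_wd_apply _ 1).symm.trans h2
    have h4 : Nat.beq (act [.c, .d, .c, .d] 1) 1 = false := by decide +kernel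
    rw [h3] at h4
    exact absurd h4 (by decide)

/-- **Three invariant good characters** of the Held group -/
theorem ginv3 {τ : MulAut Spor.He} (hτ : TwoPow τ) (hn : ¬ IsInn τ) : GInv3 τ := by
  obtain ⟨hfin, -⟩ := Cfsg.Agent.SporadicB.HeUpper.card_he_le
  obtain ⟨χ, hχ⟩ := exists_val
  obtain ⟨s, hs⟩ := eq_conj_rho hn
  have hrat : ∀ g, ∃ q : ℚ, χ g = q := by
    intro g
    obtain ⟨q, hq⟩ := hχ.exists_rat H329.K4.He.base_tr g
    refine ⟨∑ i, q i * Cfsg.Agent.H707.Odd.He.a i, ?_⟩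
    rw [hq, Rat.cast_sum]
    refine Finset.sum_congr rfl fun i _ => ?_
    rw [Rat.cast_mul]
    congr 1
    fin_cases i <;> simp [ac, Cfsg.Agent.H707.Odd.He.a]
  have hodd : OddIrr χ := H329.K4.He.oddIrr_of hχ.irr hχ.deg (by decide)
  have hgood : Good χ := ⟨hodd, H329.K4.sigFix_of_rat (isIrr_isCharacter hχ.irr) hrat, InB0.of_real hodd fun x => by
    obtain ⟨q, hq⟩ := hrat x
    rw [hq]
    exact Complex.ratCast_im q⟩
  refine ginv3_of_par ?_ hτ hgood ?_ (t := t) ?_ ?_ (n := 0) (by decide) ?_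
  · rw [card_he]; decide
  · intro x
    rw [hs, isIrr_isClassFunction hχ.irr (rho x) s, val_rho hχ]
  · rw [orderOf_t]; decide
  · rw [isConj_iff]
    exact ⟨s, by rw [hs, rho_t]⟩
  · rw [Int.cast_zero]
    exact Cfsg.Agent.H707.Odd.eq_zero_of_defect_zero (p := 5) (n := 2) (by norm_num) (by rw [card_he]; norm_num)
      (by rw [card_he]; norm_num) hχ.irr hχ.deg (by norm_num) (by rw [orderOf_t])

/-- transport of `GInv3` -/
theorem ginv3_congr {S : Type u} [Group S] {T : Type v} [Group T] (e : S ≃* T) {τ : MulAut S}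
    (h : GInv3 (MulAut.congr e τ)) : GInv3 τ := by
  obtain ⟨χ, h1, h2⟩ := h
  refine ⟨fun i t => χ i (e t), fun i j hij => h1 ?_, fun i => ⟨H740.K4.good_comp e (h2 i).1, fun x => ?_⟩⟩
  · funext s
    have := congrFun hij (e.symm s)
    simpa using this
  · have h3 := (h2 i).2 (e x)
    have h4 : MulAut.congr e τ (e x) = e (τ x) := by
      show e (τ (e.symm (e x))) = _
      rw [e.symm_apply_apply]
    rw [h4] at h3
    exact h3

/-- **S4547, the row of the Held group** -/
theorem row {S : Type u} [Group S] (h : Spor.IsoHe S) : Row S := by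
  have hd := d3_he h
  have hfin : Finite S := by
    obtain ⟨e⟩ := h
    obtain ⟨hfin, -⟩ := Cfsg.Agent.SporadicB.HeUpper.card_he_le
    exact Finite.of_equiv _ e.symm.toEquiv
  refine ⟨Or.inl ⟨H329.K4.He.good5_he h, hd⟩, fun τ hτ hni => iff_of_true ?_ ?_⟩
  · obtain ⟨e⟩ := h
    have hcg : ∀ (φ : MulAut S) (x : S), MulAut.congr e φ (e x) = e (φ x) := fun φ x => by
      show e (φ (e.symm (e x))) = _
      rw [e.symm_apply_apply]
    refine ginv3_congr e (ginv3 ?_ ?_)
    · obtain ⟨k, s, hs⟩ := hτ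
      refine ⟨k, e s, fun y => ?_⟩
      obtain ⟨x, rfl⟩ := e.surjective y
      rw [← map_pow, hcg, hs, map_mul, map_mul, map_inv]
    · rintro ⟨y, hy⟩
      refine hni ⟨e.symm y, fun x => e.injective ?_⟩
      rw [← hcg, hy, map_mul, map_mul, map_inv, e.apply_symm_apply]
  · obtain ⟨e⟩ := id h
    have hs : IsSimpleGroup S := e.isSimpleGroup
    have hna : ¬ IsMulCommutative S := by
      intro hc
      let _ : CommGroup S := { (inferInstance : Group S) with mul_comm := fun a b => hc.is_comm.comm a b }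
      have h1 := IsSimpleGroup.prime_card (α := S)
      rw [Nat.card_congr e.toEquiv, card_he] at h1
      norm_num at h1
    refine H845.K547.d3_autExt hna hd ?_ hni
    obtain ⟨s, hs⟩ := KFacts.He.Outer.sq_inner h τ
    refine ⟨s, fun x => ?_⟩
    rw [pow_two, ← hs, MulAut.conj_apply]

end Cfsg.Agent.H825.K547.He
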