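import Cfsg.Agent.H329.K4.Orb

/-!
# S4547: automorphisms and the characters of orbitals (helper825)

`G` a finite group acting transitively on `X`, `K` the stabiliser of `x₀`, `cls` the orbits of `K`, `α` an automorphism
mapping `K` into itself. The orbits of `α g • x₀` and of `g • x₀` under `K` have the same size, and if the spherical
function takes the same values on the orbits of the same size the character of `Val` is invariant under `α`.
-/

set_option autoImplicit false

open Cfsg Cfsg.Agent.Characters.Core Cfsg.Agent.H329.K4.Orb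

namespace Cfsg.Agent.H825.K547

universe u

variable {G : Type u} [Group G] {X : Type} [Fintype X] [MulAction G X]

/-- the permutation induced by an automorphism which maps the stabiliser into itself -/
theorem exists_perm {x₀ : X} (hX : ∀ x : X, ∃ g : G, g • x₀ = x) (α : MulAut G)
    (hα : ∀ g : G, g • x₀ = x₀ → α g • x₀ = x₀) : ∃ π : Equiv.Perm X, (∀ (g : G) (x : X), π (g • x) = α g • π x) ∧
      π x₀ = x₀ := by
  choose s hs using hX
  have h1 : ∀ g : G, α (s (g • x₀)) • x₀ = α g • x₀ := by
    intro g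
    have h2 : (g⁻¹ * s (g • x₀)) • x₀ = x₀ := by rw [mul_smul, hs, inv_smul_smul]
    have h3 := hα _ h2
    rw [map_mul, mul_smul, map_inv, inv_smul_eq_iff] at h3
    exact h3
  let π : X → X := fun x => α (s x) • x₀
  have hπ : ∀ g : G, π (g • x₀) = α g • x₀ := h1
  have hsur : Function.Surjective π := by
    intro y
    refine ⟨α.symm (s y) • x₀, ?_⟩
    rw [hπ]
    have h2 : α (α.symm (s y)) = s y := α.apply_symm_apply _
    rw [h2, hs]
  have hbij : Function.Bijective π := Finite.surjective_iff_bijective.1 hsur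
  refine ⟨Equiv.ofBijective π hbij, fun g x => ?_, ?_⟩
  · show π (g • x) = α g • π x
    rw [← hs x, ← mul_smul, hπ, hπ, map_mul, mul_smul]
  · show π x₀ = x₀
    have h2 := hπ 1
    rwa [map_one, one_smul] at h2

/-- the sizes of the orbits are invariant -/
theorem size_eq {x₀ : X} (α : MulAut G) (π : Equiv.Perm X)
    (hπ : ∀ (g : G) (x : X), π (g • x) = α g • π x) (hπ0 : π x₀ = x₀) {n : ℕ} (cls : X → Fin n) (r : Fin n → X)
    (hcls : ∀ g : G, g • x₀ = x₀ → ∀ x, cls (g • x) = cls x)
    (htr : ∀ x, ∃ g : G, g • x₀ = x₀ ∧ g • r (cls x) = x) (x : X) :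
    (Finset.univ.filter fun y => cls y = cls (π x)).card = (Finset.univ.filter fun y => cls y = cls x).card := by
  classical
  have key : ∀ x y : X, cls x = cls y ↔ ∃ g : G, g • x₀ = x₀ ∧ g • x = y := by
    intro x y
    constructor
    · intro h
      obtain ⟨g, hg, hgx⟩ := htr x
      obtain ⟨g', hg', hgy⟩ := htr y
      refine ⟨g' * g⁻¹, ?_, ?_⟩
      · have h1 : g⁻¹ • x₀ = x₀ := by rw [inv_smul_eq_iff, hg]
        rw [mul_smul, h1, hg']
      · rw [mul_smul, ← hgx, inv_smul_smul, h, hgy]
    · rintro ⟨g, hg, rfl⟩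
      exact (hcls g hg x).symm
  have hmap : ∀ x y : X, cls y = cls x ↔ cls (π y) = cls (π x) := by
    intro x y
    rw [key, key]
    constructor
    · rintro ⟨g, hg, rfl⟩
      refine ⟨α g, ?_, (hπ g y).symm⟩
      rw [← hπ0, ← hπ, hg]
    · rintro ⟨g, hg, hgy⟩
      have h1 : α (α.symm g) = g := α.apply_symm_apply _
      refine ⟨α.symm g, ?_, ?_⟩
      · apply π.injective
        rw [hπ, h1, hπ0, hg]
      · apply π.injective
        rw [hπ, h1, hgy]
  symm
  refine Finset.card_bij (fun y _ => π y) ?_ ?_ ?_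
  · intro y hy
    exact Finset.mem_filter.2 ⟨Finset.mem_univ _, (hmap x y).1 (Finset.mem_filter.1 hy).2⟩
  · intro y _ y' _ h
    exact π.injective h
  · intro y hy
    refine ⟨π.symm y, Finset.mem_filter.2 ⟨Finset.mem_univ _, (hmap x _).2 ?_⟩, π.apply_symm_apply y⟩
    rw [π.apply_symm_apply]
    exact (Finset.mem_filter.1 hy).2

/-- **The character of a spherical function is invariant** under an automorphism preserving the spherical function. -/
theorem val_comp {x₀ : X} (hX : ∀ x : X, ∃ g : G, g • x₀ = x) (α : MulAut G) (π : Equiv.Perm X)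
    (hπ : ∀ (g : G) (x : X), π (g • x) = α g • π x) {n : ℕ} {cls : X → Fin n} {a : Fin n → ℂ} {d : ℕ} {χ : G → ℂ}
    (h : Val x₀ cls a d χ) (hπ0 : π x₀ = x₀) (ha : ∀ x, a (cls (π x)) = a (cls x)) (g : G) : χ (α g) = χ g := by
  choose s hs using hX
  have hc : (Fintype.card X : ℂ) ≠ 0 := by
    have : Nonempty X := ⟨x₀⟩
    exact_mod_cast Fintype.card_ne_zero
  have h1 := h.val s hs g
  have h2 := h.val (fun x => α (s (π.symm x))) (fun x => by
    show α (s (π.symm x)) • x₀ = x
    nth_rw 1 [← hπ0]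
    rw [← hπ, hs, π.apply_symm_apply]) (α g)
  refine mul_left_cancel₀ hc ?_
  rw [h1, h2]
  congr 1
  symm
  refine Fintype.sum_equiv π _ _ fun y => ?_
  show a (cls ((s y)⁻¹ • g⁻¹ • y)) = a (cls ((α (s (π.symm (π y))))⁻¹ • (α g)⁻¹ • π y))
  rw [π.symm_apply_apply, ← map_inv, ← map_inv, ← hπ, ← hπ, ha]

end Cfsg.Agent.H825.K547
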